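import Groth.Agent.ValTrivLib.Main
import Groth.Agent.AmpleEmb.Compose
import Groth.Agent.AmpleEmb.Inverse

/-!
# Triviality of invertible modules over valuation rings
-/

set_option autoImplicit false
set_option backward.isDefEq.respectTransparency false
set_option backward.isDefEq.respectTransparency.types false
set_option linter.style.haveILetI false
set_option maxHeartbeats 1000000

universe u

open CategoryTheory CategoryTheory.Limits AlgebraicGeometry TopologicalSpace Opposite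
open Groth.Agent.PullbackMod Groth.Agent.ParaFLib Groth.Agent.AmpleLib

noncomputable section

namespace Groth.Agent.ValTrivLib

/-- A nonzero section of a trivial invertible module on a scheme whose functions form a field generates. -/
theorem gen_of_ne_zero {Z : Scheme.{u}} (hfield : IsField Γ(Z, ⊤)) {L : Z.Modules} (h : CubeLib.Triv L)
    {σ : Γ(L, ⊤)} (hσ : σ ≠ 0) : Gen ⊤ σ := by
  obtain ⟨τ, hτ⟩ := h
  obtain ⟨r, hr⟩ := (hτ ⊤ le_rfl).2 σ
  simp only [ParaFLib.res_self] at hr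
  subst hr
  obtain ⟨b, hb⟩ := hfield.mul_inv_cancel (fun h0 : r = 0 => hσ (by rw [h0, zero_smul]))
  exact hτ.smul (IsUnit.of_mul_eq_one b hb)

variable {A : Type u} [CommRing A] [IsDomain A] [ValuationRing A] {X : Scheme.{u}}
  {f : X ⟶ Spec (CommRingCat.of A)} [IsProper f]

/-- Every point generalizes a point of the closed fibre. -/
theorem exists_specializes_closed (x : X) : ∃ z : X, x ⤳ z ∧ f z = IsLocalRing.closedPoint A := by
  have hcl : IsClosed (f '' closure {x}) := f.isClosedMap _ isClosed_closure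
  obtain ⟨z, hz, hfz⟩ :=
    hcl.stableUnderSpecialization (IsLocalRing.specializes_closedPoint (f x)) ⟨x, subset_closure rfl, rfl⟩
  exact ⟨z, specializes_iff_mem_closure.2 hz, hfz⟩

variable [Flat f] [LocallyOfFinitePresentation f]

theorem nontrivial_fiberH {L : X.Modules} (η : (Spec (CommRingCat.of A) : Scheme.{u}))
    (hne : Nonempty (f.fiber η)) (h : CubeLib.Triv ((Scheme.Modules.pullback (f.fiberι η)).obj L)) :
    Nontrivial (CohIII.fiberH f L η 0) := by
  letI : (f.fiber η).Over (Spec (CommRingCat.of ((Spec (CommRingCat.of A) : Scheme.{u}).residueField η))) :=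
    ⟨f.fiberToSpecResidueField η⟩
  obtain ⟨σ, hσ⟩ := h
  let e := BCLib.gammaH0 (A := (Spec (CommRingCat.of A) : Scheme.{u}).residueField η)
    ((Scheme.Modules.pullback (f.fiberι η)).obj L)
  haveI : Nonempty ((⊤ : (f.fiber η).Opens) : Scheme.{u}) := ⟨⟨hne.some, trivial⟩⟩
  haveI : Nontrivial Γ(f.fiber η, ⊤) := inferInstance
  have h0 : σ ≠ 0 := fun h0 => one_ne_zero (α := Γ(f.fiber η, ⊤)) ((hσ ⊤ le_rfl).1 (by simp [h0]))
  exact ⟨⟨e σ, 0, fun he => h0 (e.injective (he.trans (map_zero e).symm))⟩⟩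

/-- An invertible module trivial on the generic fibre is trivial. -/
theorem triv_of_generic {L : X.Modules} (hL : PicF.IsInvertible L) (η : (Spec (CommRingCat.of A) : Scheme.{u}))
    (hη : η = genericPoint (Spec (CommRingCat.of A) : Scheme.{u})) (hne : Nonempty (f.fiber η))
    (hT : CubeLib.Triv ((Scheme.Modules.pullback (f.fiberι η)).obj L))
    (hint : IsIntegral (f.fiber (IsLocalRing.closedPoint A))) : CubeLib.Triv L := by
  obtain ⟨N, hN, ⟨e⟩⟩ := AmpleEmb.exists_isInverseOf hL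
  have hTN : CubeLib.Triv ((Scheme.Modules.pullback (f.fiberι η)).obj N) := by
    obtain ⟨i⟩ := CubeLib.triv_iff.1 hT
    exact CubeLib.triv_iff.2 ⟨(unitL _).symm ≪≫ AmpleLib.tIso i.symm (Iso.refl _) ≪≫
      (pullTensor (f.fiberι η) L N).symm ≪≫ (Scheme.Modules.pullback (f.fiberι η)).mapIso e ≪≫ pullO _⟩
  let c : (Spec (CommRingCat.of A) : Scheme.{u}) := IsLocalRing.closedPoint A
  have key : ∀ {F : X.Modules}, PicF.IsInvertible F → CubeLib.Triv ((Scheme.Modules.pullback (f.fiberι η)).obj F) →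
      ∃ s : Γ(F, f ⁻¹ᵁ ⊤), pullMap (f.fiberι c) F
        (show f.fiberToSpecResidueField c ⁻¹ᵁ ⊤ ≤ f.fiberι c ⁻¹ᵁ (f ⁻¹ᵁ (⊤ : (Spec (CommRingCat.of A) : Scheme.{u}).Opens)) from fun _ _ => trivial) s ≠ 0 := by
    intro F hF hFT
    obtain ⟨hq, hfp⟩ := PullbackMod.isQCoh_and_isFP_of_isFinLocFree F (CurveLib.isFinLocFree_of_isInvertible hF)
    haveI := hq
    exact exists_section_closed_ne_zero hfp (TildePerf.isFlatOver_of_isFinLocFree f (CurveLib.isFinLocFree_of_isInvertible hF))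
      η c hη (nontrivial_fiberH η hne hFT)
  obtain ⟨s, hs⟩ := key hL hT
  obtain ⟨t, ht⟩ := key hN hTN
  haveI : IsIntegral (f.fiber c) := hint
  haveI := CubeLib.universallyClosed_fiber f c
  have hfield : IsField Γ(f.fiber c, ⊤) :=
    isField_of_universallyClosed ((Spec (CommRingCat.of A) : Scheme.{u}).residueField c) (f.fiberToSpecResidueField c)
  have hTc := CubeLib.triv_of_sections hfield (isInvertible_pullback _ hL) (isInvertible_pullback _ hN)
    ((pullTensor (f.fiberι c) L N).symm ≪≫ (Scheme.Modules.pullback (f.fiberι c)).mapIso e ≪≫ pullO _) hs ht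
  have hgen := gen_of_ne_zero hfield hTc hs
  haveI := Groth.Agent.InvExt.isQCoh_of_isInvertible hL
  refine ⟨s, gen_of_germ fun x hx => ?_⟩
  obtain ⟨z, hxz, hz⟩ := exists_specializes_closed (f := f) x
  obtain ⟨w, rfl⟩ : z ∈ Set.range (f.fiberι c) := by rw [f.range_fiberι c]; exact hz
  have hb : Function.Bijective fun r : X.presheaf.stalk (f.fiberι c w) =>
      r • L.presheaf.germ (f ⁻¹ᵁ ⊤) (f.fiberι c w) trivial s := by
    have h' := Gen.bijective_germ (W := f.fiberToSpecResidueField c ⁻¹ᵁ ⊤) (s := pullMap (f.fiberι c) L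
      (show f.fiberToSpecResidueField c ⁻¹ᵁ ⊤ ≤ f.fiberι c ⁻¹ᵁ (f ⁻¹ᵁ (⊤ : (Spec (CommRingCat.of A) : Scheme.{u}).Opens)) from fun _ _ => trivial) s)
      hgen w trivial
    obtain ⟨b, hb⟩ := exists_stalk_gen hL (f.fiberι c w)
    obtain ⟨r, hr⟩ := hb.2 (L.presheaf.germ (f ⁻¹ᵁ ⊤) (f.fiberι c w) trivial s)
    change r • b = _ at hr
    rw [← hr, AmpleLib.bijective_smul_iff hb]
    rw [← pullStalk_germ' (f.fiberι c) L w (show f.fiberι c w ∈ f ⁻¹ᵁ (⊤ : (Spec (CommRingCat.of A) : Scheme.{u}).Opens) from trivial)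
      (show w ∈ f.fiberToSpecResidueField c ⁻¹ᵁ ⊤ from trivial) (show f.fiberToSpecResidueField c ⁻¹ᵁ ⊤ ≤ f.fiberι c ⁻¹ᵁ (f ⁻¹ᵁ (⊤ : (Spec (CommRingCat.of A) : Scheme.{u}).Opens)) from fun _ _ => trivial),
      ← hr, pullStalk_smul, AmpleLib.bijective_smul_iff (bijective_pullStalk _ w hb)] at h'
    exact isUnit_of_map_unit ((f.fiberι c).stalkMap w).hom r h'
  obtain ⟨V, hV, hwV, hgV⟩ := AmpleEmb.gen_near_of_bijective_germ hL s trivial hb
  have hxV : x ∈ V := hxz.mem_open V.2 hwV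
  have := hgV.bijective_germ x hxV
  rwa [TopCat.Presheaf.germ_res_apply] at this

end Groth.Agent.ValTrivLib
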