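import Groth.Agent.GenBCLib.Deg0
import Groth.Agent.GenBCLib.Main
import Groth.Agent.AmpleEmb.ComposeRel
import Groth.Agent.CubeLib.SeesawPoint
import Mathlib.RingTheory.Flat.TorsionFree
import Mathlib.RingTheory.Valuation.ValuationRing

/-!
# Invertible modules trivial on the generic fibre over a valuation ring
-/

set_option autoImplicit false
set_option backward.isDefEq.respectTransparency false
set_option backward.isDefEq.respectTransparency.types false
set_option linter.style.haveILetI false
set_option maxHeartbeats 1000000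

universe u

open CategoryTheory CategoryTheory.Limits AlgebraicGeometry TopologicalSpace Opposite TensorProduct
open Groth.Agent.PullbackMod Groth.Agent.ParaFLib Groth.Agent.AmpleLib Groth.Agent.BCLib

noncomputable section

namespace Groth.Agent.ValTrivLib

/-- Kernels between finite projective modules over a valuation ring are free direct summands. -/
theorem exists_retraction_ker {B : Type u} [CommRing B] [IsDomain B] [ValuationRing B] {P Q : Type u}
    [AddCommGroup P] [Module B P] [Module.Finite B P] [Module.Projective B P]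
    [AddCommGroup Q] [Module B Q] [Module.Projective B Q] (d : P →ₗ[B] Q) :
    (∃ p : P →ₗ[B] LinearMap.ker d, p ∘ₗ (LinearMap.ker d).subtype = LinearMap.id) ∧
      Module.Free B (LinearMap.ker d) ∧ Module.Finite B (LinearMap.ker d) := by
  haveI : Module.IsTorsionFree B (LinearMap.range d) := inferInstance
  haveI : Module.Flat B (LinearMap.range d) :=
    Module.Flat.flat_iff_torsion_eq_bot_of_isBezout.2 (Submodule.isTorsionFree_iff_torsion_eq_bot.1 inferInstance)
  haveI : Module.Finite B (LinearMap.range d) := Module.Finite.range d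
  haveI : Module.Free B (LinearMap.range d) := Module.free_of_flat_of_isLocalRing
  obtain ⟨g, hg⟩ := d.rangeRestrict.exists_rightInverse_of_surjective d.range_rangeRestrict
  let p : P →ₗ[B] LinearMap.ker d := LinearMap.codRestrict _ (LinearMap.id - g ∘ₗ d.rangeRestrict) fun x => by
    have := congrArg (Subtype.val : LinearMap.range d → Q) (LinearMap.congr_fun hg (d.rangeRestrict x))
    simp only [LinearMap.coe_comp, Function.comp_apply, LinearMap.id_apply, LinearMap.codRestrict_apply] at this
    rw [LinearMap.mem_ker, LinearMap.sub_apply, map_sub, LinearMap.id_apply, sub_eq_zero]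
    exact this.symm
  have hp : p ∘ₗ (LinearMap.ker d).subtype = LinearMap.id := by
    refine LinearMap.ext fun x => Subtype.ext ?_
    show (x : P) - g (d.rangeRestrict x) = x
    rw [show d.rangeRestrict (x : P) = 0 from Subtype.ext (LinearMap.mem_ker.1 x.2), map_zero, sub_zero]
  haveI : Module.Finite B (LinearMap.ker d) :=
    Module.Finite.of_surjective p fun x => ⟨x, LinearMap.congr_fun hp x⟩
  haveI : Module.Projective B (LinearMap.ker d) := Module.Projective.of_split _ p hp
  exact ⟨⟨p, hp⟩, Module.free_of_flat_of_isLocalRing, ‹_›⟩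

variable {A : Type u} [CommRing A] [IsDomain A] [ValuationRing A] {X : Scheme.{u}}
  {f : X ⟶ Spec (CommRingCat.of A)} [IsProper f] [Flat f] [LocallyOfFinitePresentation f]

instance : IsDomain Γ(Spec (CommRingCat.of A), ⊤) :=
  (Scheme.ΓSpecIso (CommRingCat.of A)).commRingCatIsoToRingEquiv.toMulEquiv.isDomain

instance : ValuationRing Γ(Spec (CommRingCat.of A), ⊤) :=
  Function.Surjective.valuationRing (Scheme.ΓSpecIso (CommRingCat.of A)).commRingCatIsoToRingEquiv.symm.toRingHom
    (Scheme.ΓSpecIso (CommRingCat.of A)).commRingCatIsoToRingEquiv.symm.surjective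

/-- A module with sections on the generic fibre has a global section which is nonzero on the closed fibre. -/
theorem exists_section_closed_ne_zero {F : X.Modules} [Coh.IsQCoh F] (hFP : CohB1.IsFP F) (hfl : FlatMod.IsFlatOver f F)
    (η c : (Spec (CommRingCat.of A) : Scheme.{u})) (hη : η = genericPoint (Spec (CommRingCat.of A) : Scheme.{u}))
    (h : Nontrivial (CohIII.fiberH f F η 0)) :
    ∃ s : Γ(F, f ⁻¹ᵁ ⊤), pullMap (f.fiberι c) F
      (show f.fiberToSpecResidueField c ⁻¹ᵁ ⊤ ≤ f.fiberι c ⁻¹ᵁ (f ⁻¹ᵁ (⊤ : (Spec (CommRingCat.of A) : Scheme.{u}).Opens)) from fun _ _ => trivial) s ≠ 0 := by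
  let S : Scheme.{u} := Spec (CommRingCat.of A)
  obtain ⟨D⟩ := GenBCLib.nonempty_dat hFP hfl (isAffineOpen_top (Spec (CommRingCat.of A)))
  obtain ⟨⟨p, hp⟩, hfree, hfin⟩ := exists_retraction_ker (D.L.d 0)
  -- the cocycles are nonzero
  haveI : Nontrivial (LinearMap.ker (D.L.d 0)) := by
    by_contra hc
    rw [not_nontrivial_iff_subsingleton] at hc
    have hinj : Function.Injective (D.L.d 0) := LinearMap.ker_eq_bot.1 (Submodule.eq_bot_of_subsingleton)
    letI := GenBCLib.kAlg S (show η ∈ (⊤ : S.Opens) from trivial)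
    have hev0 : ∀ a : Γ(S, ⊤), algebraMap Γ(S, ⊤) (S.residueField η) a = 0 → a = 0 := fun a ha => by
      have hb : η ∉ S.basicOpen a :=
        (S.evaluation_eq_zero_iff_notMem_basicOpen η (show η ∈ (⊤ : S.Opens) from trivial) a).1 ha
      refine (basicOpen_eq_bot_iff a).1 (eq_bot_iff.2 fun x hx => hb ?_)
      rw [hη]
      exact (genericPoint_specializes x).mem_open (S.basicOpen a).2 hx
    haveI : Module.Flat Γ(S, ⊤) (S.residueField η) := by
      refine Module.Flat.flat_iff_torsion_eq_bot_of_isBezout.2 (eq_bot_iff.2 fun x hx => ?_)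
      obtain ⟨⟨a, ha⟩, hax⟩ := hx
      refine (Submodule.mem_bot _).2 ((mul_eq_zero.1 ((Algebra.smul_def a x).symm.trans hax)).resolve_left fun h0 => ?_)
      exact nonZeroDivisors.ne_zero ha (hev0 a h0)
    obtain ⟨ev, hev, -⟩ := D.exists_evFibre (show η ∈ (⊤ : S.Opens) from trivial) 0
    obtain ⟨v, hv⟩ := exists_ne (0 : CohIII.fiberH f F η 0)
    obtain ⟨⟨z, hz⟩, rfl⟩ := hev v
    apply hv
    have hz0 : z = 0 := by
      have := Module.Flat.lTensor_preserves_injective_linearMap (M := S.residueField η) (D.L.d 0) hinj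
      rw [← LinearMap.baseChange_eq_ltensor] at this
      exact this ((LinearMap.mem_ker.1 hz).trans (map_zero _).symm)
    subst hz0
    exact map_zero ev
  -- sections are the cocycles
  let zm := (D.ψ.zMap₀ 0)
  have hzb : Function.Bijective zm := by
    refine ⟨(injective_iff_map_eq_zero zm).2 fun l hl => Subtype.ext ?_, fun z => ?_⟩
    · exact (Submodule.mem_bot _).1 (D.ψ.cohom_inj (D.bij _) 0 l
        ((Submodule.mem_bot _).2 (congrArg Subtype.val hl)))
    · obtain ⟨l, hl⟩ := D.ψ.cohom_surj (D.bij _) 0 z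
      exact ⟨l, Subtype.ext (sub_eq_zero.1 ((Submodule.mem_bot _).1 hl)).symm⟩
  let eN := (LinearEquiv.ofBijective zm hzb).trans (GenBCLib.ev0 D.hV F D.W D.hcov)
  let b := (Module.Free.chooseBasis Γ(S, ⊤) (LinearMap.ker (D.L.d 0))).map eN
  haveI := eN.toEquiv.symm.nontrivial
  obtain ⟨i⟩ := b.index_nonempty
  let g := S.fromSpecResidueField c
  have e : (⊤ : (Spec (S.residueField c)).Opens) ≤ g ⁻¹ᵁ (⊤ : S.Opens) := fun _ _ => trivial
  refine ⟨b i, ?_⟩
  haveI := GenBCLib.isQCoh_restrict F (f ⁻¹ᵁ (⊤ : S.Opens))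
  haveI : IsSeparated (f.fiberToSpecResidueField c) :=
    inferInstanceAs (IsSeparated (pullback.snd f (S.fromSpecResidueField c)))
  haveI : QuasiCompact (f.fiberToSpecResidueField c) :=
    inferInstanceAs (QuasiCompact (pullback.snd f (S.fromSpecResidueField c)))
  haveI : Coh.IsQCoh ((Scheme.Modules.pullback (f.fiberι c)).obj F) := PullbackMod.isQCoh_pullback _ F
  haveI := GenBCLib.isQCoh_restrict ((Scheme.Modules.pullback (f.fiberι c)).obj F) (f.fiberToSpecResidueField c ⁻¹ᵁ ⊤)
  have hpb : IsPullback (f.fiberι c) (f.fiberToSpecResidueField c) f g := IsPullback.of_hasPullback f g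
  letI := (g.appLE (⊤ : S.Opens) ⊤ e).hom.toAlgebra
  let C := Γ(Spec (S.residueField c), ⊤)
  haveI : Nontrivial C := (Scheme.ΓSpecIso (S.residueField c)).commRingCatIsoToRingEquiv.toEquiv.nontrivial
  have hinjL : D.L.BCInj C 0 := fun w hw => by
    have h1 : p.baseChange C (D.L.zIncl C 0 w) = w := by
      rw [← LinearMap.comp_apply, ← LinearMap.baseChange_comp, hp, LinearMap.baseChange_id, LinearMap.id_apply]
    rw [(Submodule.mem_bot _).1 hw, map_zero] at h1
    rw [← h1]
    exact zero_mem _
  have hbc : Function.Injective ((CohBC.bc0 f g (f.fiberToSpecResidueField c) (f.fiberι c) hpb.w F).app ⊤) :=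
    (GenBCLib.bc0_app_criterion hpb D.hV (isAffineOpen_top _) e D.W F D.hcov D.haff).2.2
      ((D.ψ.bcInj_iff C (D.bij _) (D.bij _) 0).2 hinjL)
  intro h0
  rw [← GenBCLib.bc0_pullMap hpb.w F e] at h0
  have h1 := hbc (h0.trans (map_zero _).symm)
  let M := (Scheme.Modules.pushforward f).obj F
  haveI : Coh.IsQCoh M := QCohLib.isQCoh_pushforward F f
  letI := Module.compHom Γ((Scheme.Modules.pullback g).obj M, ⊤) (g.appLE (⊤ : S.Opens) ⊤ e).hom
  haveI : IsScalarTower Γ(S, ⊤) C Γ((Scheme.Modules.pullback g).obj M, ⊤) := .of_algebraMap_smul fun _ _ => rfl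
  have hB := (isBaseChange_pullMapL g M D.hV (isAffineOpen_top _) e)
  refine (b.baseChange C).ne_zero i (hB.equiv.injective ?_)
  rw [Module.Basis.baseChange_apply, IsBaseChange.equiv_tmul, one_smul, map_zero]
  exact h1

end Groth.Agent.ValTrivLib
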